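import Groth.Agent.StabLib.Simple
import Groth.Agent.StabLib.Morph
import Groth.Agent.AmpleDevLib.Pull
import Groth.Agent.FormalCohLib.ProjAmple
import Groth.Agent.PicPnLib.Twist
import Groth.Prelude.Def_Pic13

/-!
# Lexicographically stable sheaves are simple
-/

set_option autoImplicit false
set_option linter.style.haveILetI false
set_option backward.isDefEq.respectTransparency false
set_option maxHeartbeats 800000
universe u

open CategoryTheory CategoryTheory.Limits AlgebraicGeometry Polynomial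
open StabLib HilbPolyLib DevissLib

noncomputable section

namespace EllSimpleLib

theorem lex_combination {ℓ : ℕ} {v a b : Fin ℓ → ℚ} {s t : ℚ} (hs : 0 < s) (ht : 0 < t)
    (h : ∀ j, (s + t) * v j = s * a j + t * b j) (ha : toLex a < toLex v) (hb : toLex b < toLex v) : False := by
  obtain ⟨i, hi, hai⟩ := ha
  obtain ⟨i', hi', hbi⟩ := hb
  change a i < v i at hai
  change b i' < v i' at hbi
  rcases lt_trichotomy i i' with hlt | rfl | hgt
  · have := hi' i hlt
    change b i = v i at this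
    have := h i
    nlinarith [mul_lt_mul_of_pos_left hai hs]
  · have := h i
    nlinarith [mul_lt_mul_of_pos_left hai hs, mul_lt_mul_of_pos_left hbi ht]
  · have := hi i' hgt
    change a i' = v i' at this
    have := h i'
    nlinarith [mul_lt_mul_of_pos_left hbi ht]

variable {k : Type u} [Field k] {X : Scheme.{u}} [X.Over (Spec (CommRingCat.of k))]
  [IsProper (X ↘ Spec (CommRingCat.of k))] {N : ℕ} (ι : X ⟶ CohB1.ProjSpace N k) [IsClosedImmersion ι]

omit [IsProper (X ↘ Spec (CommRingCat.of k))] [X.Over (Spec (CommRingCat.of k))] in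
theorem isAmple_pol : CohB1.IsAmple ((Scheme.Modules.pullback ι).obj (Twist.twistProjSpace N k 1)) :=
  AmpleDevLib.isAmple_pb ι (PicPnLib.twist_inv N k 1) (FormalCohLib.isAmple_twistProjSpace N k)

omit [IsProper (X ↘ Spec (CommRingCat.of k))] [X.Over (Spec (CommRingCat.of k))] [IsClosedImmersion ι] in
theorem nonempty_pull_twist_add (a b : ℤ) :
    Nonempty (CohB1.tensorMod ((Scheme.Modules.pullback ι).obj (Twist.twistProjSpace N k a))
      ((Scheme.Modules.pullback ι).obj (Twist.twistProjSpace N k b)) ≅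
      (Scheme.Modules.pullback ι).obj (Twist.twistProjSpace N k (a + b))) := by
  obtain ⟨e'⟩ := PicPnLib.twist_add N k a b
  haveI := KFlatLib.isIso_pullθ ι (Twist.twistProjSpace N k a) (Twist.twistProjSpace N k b)
  exact ⟨(@asIso _ _ _ _ (KFlatLib.pullθ ι (Twist.twistProjSpace N k a) (Twist.twistProjSpace N k b)) this).symm ≪≫
    (Scheme.Modules.pullback ι).mapIso e'⟩

omit [IsProper (X ↘ Spec (CommRingCat.of k))] [X.Over (Spec (CommRingCat.of k))] [IsClosedImmersion ι] in
theorem nonempty_pow_iso : ∀ l : ℕ,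
    Nonempty (CohB1.tensorPow ((Scheme.Modules.pullback ι).obj (Twist.twistProjSpace N k 1)) l ≅
      (Scheme.Modules.pullback ι).obj (Twist.twistProjSpace N k (l : ℤ))) := by
  intro l
  induction l with
  | zero =>
    obtain ⟨e⟩ := PicPnLib.twist_zero N k
    exact ⟨(KFlatLib.pullUnitIso ι).symm ≪≫ (Scheme.Modules.pullback ι).mapIso e.symm⟩
  | succ l ih =>
    obtain ⟨e⟩ := ih
    obtain ⟨e'⟩ := nonempty_pull_twist_add ι (l : ℤ) 1
    exact ⟨congrLeft e _ ≪≫ e' ≪≫ eqToIso (by push_cast; rfl)⟩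

theorem euler_twistOn_nat {F : X.Modules} (m : ℕ) :
    Curv2.euler k X (Pic13.twistOn k ι F (m : ℤ)) =
      Curv2.euler k X (ShStab.twist X ((Scheme.Modules.pullback ι).obj (Twist.twistProjSpace N k 1)) F m) :=
  CurvLib.euler_congr (congrRight F (nonempty_pow_iso ι m).some.symm)

/-- The Hilbert polynomial computes all twists. -/
theorem euler_twistOn {F : X.Modules} (hF : Coh.IsCoh F) (m : ℤ) :
    (Curv2.euler k X (Pic13.twistOn k ι F m) : ℚ) =
      (HPoly k ((Scheme.Modules.pullback ι).obj (Twist.twistProjSpace N k 1)) F).eval (m : ℚ) := by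
  haveI := CurvLib.isNoetherian k (X := X)
  have hA := isAmple_pol (k := k) ι
  set L := (Scheme.Modules.pullback ι).obj (Twist.twistProjSpace N k 1)
  let M : ℕ := (-m).toNat
  let G := Pic13.twistOn k ι F (-(M : ℤ))
  have hTi : PicF.IsInvertible ((Scheme.Modules.pullback ι).obj (Twist.twistProjSpace N k (-(M : ℤ)))) :=
    AmpleDevLib.isInvertible_pb ι (PicPnLib.twist_inv N k _)
  have hG : Coh.IsCoh G :=
    QCohLib.isCoh_of_iso (swapIso _ _) (isCoh_tensor hTi hF)
  have hcomp : ∀ j : ℕ, (HPoly k L G).eval (j : ℚ) =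
      (Curv2.euler k X (Pic13.twistOn k ι F (-(M : ℤ) + (j : ℤ))) : ℚ) := fun j => by
    rw [← hPoly_spec (k := k) hA hG j, ← euler_twistOn_nat]
    congr 1
    exact CurvLib.euler_congr (assocIso _ _ _ ≪≫ congrRight F (nonempty_pull_twist_add ι (-(M : ℤ)) (j : ℤ)).some)
  have heq : (HPoly k L G).comp (Polynomial.X + Polynomial.C (M : ℚ)) = HPoly k L F :=
    eq_of_eval_nat fun j => by
      rw [Polynomial.eval_comp, Polynomial.eval_add, Polynomial.eval_X, Polynomial.eval_C,
        ← Nat.cast_add, hcomp, ← hPoly_spec (k := k) hA hF j, ← euler_twistOn_nat]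
      congr 3
      push_cast
      ring
  obtain ⟨j, hj⟩ : ∃ j : ℕ, m = -(M : ℤ) + (j : ℤ) := ⟨(m + M).toNat, by omega⟩
  rw [← heq, Polynomial.eval_comp, Polynomial.eval_add, Polynomial.eval_X, Polynomial.eval_C, hj, ← hcomp]
  congr 1
  push_cast
  ring

variable [IsAlgClosed k]

theorem eq_smulHom_of_lexStable {d ℓ : ℕ} (hℓd : ℓ ≤ d)
    {E : X.Modules} (hE : Coh.IsCoh E) (h0 : ¬ IsZero E) {P : ℚ[X]}
    (hP : ∀ m : ℤ, (Curv2.euler k X (Pic13.twistOn k ι E m) : ℚ) = P.eval (m : ℚ))
    (hpure : ShStab.IsPure X E d)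
    (hst : ∀ (F : X.Modules) (j : F ⟶ E), Mono j → Coh.IsCoh F → ∀ Q : ℚ[X],
      (∀ m : ℤ, (Curv2.euler k X (Pic13.twistOn k ι F m) : ℚ) = Q.eval (m : ℚ)) →
        0 < Q.coeff d → Q.coeff d < P.coeff d →
          toLex (fun j : Fin ℓ => ((Q).coeff (d - 1 - (j : ℕ)) * (Nat.factorial (d - 1 - (j : ℕ)) : ℚ)) / ((Q).coeff d * (Nat.factorial d : ℚ))) <
          toLex (fun j : Fin ℓ => ((P).coeff (d - 1 - (j : ℕ)) * (Nat.factorial (d - 1 - (j : ℕ)) : ℚ)) / ((P).coeff d * (Nat.factorial d : ℚ))))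
    (φ : E ⟶ E) : ∃ c : k, φ = smulHom E (Coh.toGlobal (X ↘ Spec (CommRingCat.of k)) c) := by
  haveI := CurvLib.isNoetherian k (X := X)
  have hA := isAmple_pol (k := k) ι
  set L := (Scheme.Modules.pullback ι).obj (Twist.twistProjSpace N k 1)
  have hPE : HPoly k L E = P := hPoly_eq hA hE fun m => by
    rw [← euler_twistOn_nat, hP (m : ℤ), Int.cast_natCast]
  obtain ⟨c, hc⟩ := exists_not_isIso_sub (k := k) hE h0 φ
  refine ⟨c, ?_⟩
  by_contra hne
  let ψ := φ - smulHom E (Coh.toGlobal (X ↘ Spec (CommRingCat.of k)) c)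
  have hψ : ψ ≠ 0 := sub_ne_zero.mpr hne
  have hJc := DevissLib.isCoh_image ψ hE hE
  have hKc := QCohLib.isCoh_kernel (Abelian.factorThruImage ψ) hE hJc.1
  have hsum := hPoly_ker (k := k) hA (Abelian.factorThruImage ψ) hE hJc
  rw [hPE] at hsum
  have hfac : (0 : ℚ) < (Nat.factorial d : ℚ) := by exact_mod_cast Nat.factorial_pos d
  have hpos : ∀ (F : X.Modules) (j : F ⟶ E), Mono j → Coh.IsCoh F → ¬ IsZero F → 0 < (HPoly k L F).coeff d := by
    intro F j hj hF hF0
    haveI := hj
    have := alpha_pos_of_pure (k := k) hA hpure j hF hF0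
    exact (pos_iff_pos_of_mul_pos this).mp hfac
  have hJ0 : ¬ IsZero (Abelian.image ψ) := fun hz => hψ (by
    rw [← Abelian.image.fac ψ, hz.eq_of_src (Abelian.image.ι ψ) 0, Limits.comp_zero])
  by_cases hK0 : IsZero (kernel (Abelian.factorThruImage ψ))
  · haveI : Mono (Abelian.factorThruImage ψ) := Abelian.mono_of_kernel_ι_eq_zero _ (hK0.eq_of_src _ _)
    haveI : Mono ψ := by rw [← Abelian.image.fac ψ]; infer_instance
    refine hc (isIso_of_isZero_coker ψ ?_)
    by_contra hz
    have := hPoly_coker (k := k) hA ψ hE hE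
    rw [left_eq_add] at this
    exact ps_ne_zero (hPoly_ps hA (QCohLib.isCoh_cokernel ψ hE.1 hE) hz) this
  · have ha := hpos _ (kernel.ι (Abelian.factorThruImage ψ)) inferInstance hKc hK0
    have hb := hpos _ (Abelian.image.ι ψ) inferInstance hJc hJ0
    have hd : P.coeff d = (HPoly k L (kernel (Abelian.factorThruImage ψ))).coeff d +
        (HPoly k L (Abelian.image ψ)).coeff d := by rw [hsum, Polynomial.coeff_add]
    refine lex_combination ha hb (fun j => ?_)
      (hst _ (kernel.ι (Abelian.factorThruImage ψ)) inferInstance hKc _ (euler_twistOn ι hKc) ha (by linarith))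
      (hst _ (Abelian.image.ι ψ) inferInstance hJc _ (euler_twistOn ι hJc) hb (by linarith))
    have hb' := hb.ne'
    have ha' := ha.ne'
    have hab := (add_pos ha hb).ne'
    have hf' := hfac.ne'
    rw [hsum, Polynomial.coeff_add, Polynomial.coeff_add]
    simp only [L] at ha' hb' hab ⊢
    field_simp

end EllSimpleLib
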